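import Mathlib.GroupTheory.QuotientGroup.Basic
import Mathlib.GroupTheory.Sylow
import Cfsg.Agent.Thompson.Basic

/-!
Subgroups of `S` invariant under every automorphism of `S`, for `S` inside an ambient group, and
`q`-elements acting nontrivially on a subgroup.
-/

set_option autoImplicit false

namespace Cfsg.Agent.Automizer4411

open Subgroup

variable {X Y : Type*} [Group X] [Group Y]

/-- `W ≤ S` is invariant under all automorphisms of `S`. -/
def CharIn (S W : Subgroup X) : Prop :=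
  W ≤ S ∧ ∀ (e : ↥S ≃* ↥S) (w : ↥S), (w : X) ∈ W → (e w : X) ∈ W

theorem charIn_map_subtype (S : Subgroup X) (K : Subgroup ↥S) [hK : K.Characteristic] :
    CharIn S (K.map S.subtype) := by
  refine ⟨map_subtype_le K, fun e w hw => ?_⟩
  obtain ⟨u, hu, huw⟩ := hw
  have : u = w := Subtype.ext huw
  subst this
  have hmem : e u ∈ K.map e.toMonoidHom := mem_map_of_mem e.toMonoidHom hu
  rw [characteristic_iff_map_eq.1 hK e] at hmem
  exact mem_map_of_mem S.subtype hmem

theorem CharIn.conj_mem {S W : Subgroup X} (h : CharIn S W) {g : X}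
    (hg : g ∈ normalizer (S : Set X)) {w : X} (hw : w ∈ W) : g * w * g⁻¹ ∈ W := by
  let e : ↥S ≃* ↥S :=
    { toFun := fun s => ⟨g * s * g⁻¹, (mem_normalizer_iff.1 hg _).1 s.2⟩
      invFun := fun s => ⟨g⁻¹ * s * g, (mem_normalizer_iff.1 hg _).2 (by
        simpa [mul_assoc] using s.2)⟩
      left_inv := fun s => Subtype.ext (by simp [mul_assoc])
      right_inv := fun s => Subtype.ext (by simp [mul_assoc])
      map_mul' := fun s t => Subtype.ext (by simp [mul_assoc]) }
  exact h.2 e ⟨w, h.1 hw⟩ hw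

theorem CharIn.normalizer_le [Finite X] {S W : Subgroup X} (h : CharIn S W) :
    normalizer (S : Set X) ≤ normalizer (W : Set X) := fun g hg => by
  rw [mem_normalizer_iff]
  refine fun w => ⟨fun hw => h.conj_mem hg hw, fun hw => ?_⟩
  have := h.conj_mem (inv_mem hg) hw
  simpa [mul_assoc] using this

theorem CharIn.map {f : X →* Y} (hf : Function.Injective f) {S W : Subgroup X} (h : CharIn S W) :
    CharIn (S.map f) (W.map f) := by
  refine ⟨map_mono h.1, fun e w hw => ?_⟩
  let i := S.equivMapOfInjective f hf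
  obtain ⟨u, hu, huw⟩ := hw
  have hwu : i ⟨u, h.1 hu⟩ = w := Subtype.ext huw
  subst hwu
  have := h.2 ((i.trans e).trans i.symm) ⟨u, h.1 hu⟩ hu
  refine ⟨_, this, ?_⟩
  have h2 : (i (i.symm (e (i ⟨u, h.1 hu⟩))) : Y) = (e (i ⟨u, h.1 hu⟩) : Y) := by
    rw [MulEquiv.apply_symm_apply]
  rw [← h2]
  rfl

/-- An automorphism of `S` respecting `S ⊓ ker f` induces one of `S.map f`. -/
theorem CharIn.comap {f : X →* Y} {S : Subgroup X} {W : Subgroup Y}
    (hker : CharIn S (S ⊓ f.ker)) (h : CharIn (S.map f) W) : CharIn S (S ⊓ W.comap f) := by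
  refine ⟨inf_le_left, fun e w hw => ⟨(e w).2, ?_⟩⟩
  set g := f.subgroupMap S with hg
  have hgs : Function.Surjective g := f.subgroupMap_surjective S
  have hle : ∀ e : ↥S ≃* ↥S, g.ker ≤ (g.comp e.toMonoidHom).ker := by
    intro e x hx
    rw [MonoidHom.mem_ker] at hx ⊢
    have hx' : f (x : X) = 1 := congrArg Subtype.val hx
    exact Subtype.ext (MonoidHom.mem_ker.1 (hker.2 e x ⟨x.2, hx'⟩).2)
  let φ : (e : ↥S ≃* ↥S) → (↥(S.map f) →* ↥(S.map f)) := fun e =>
    g.liftOfSurjective hgs ⟨g.comp e.toMonoidHom, hle e⟩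
  have hφ : ∀ (e : ↥S ≃* ↥S) (x : ↥S), φ e (g x) = g (e x) := fun e x => by
    show g.liftOfSurjective hgs ⟨g.comp e.toMonoidHom, hle e⟩ (g x) = _
    exact MonoidHom.liftOfRightInverse_comp_apply _ _ _ _ x
  let e' : ↥(S.map f) ≃* ↥(S.map f) := MonoidHom.toMulEquiv (φ e) (φ e.symm)
    (MonoidHom.ext fun y => by
      obtain ⟨x, rfl⟩ := hgs y
      show φ e.symm (φ e (g x)) = g x
      rw [hφ, hφ, MulEquiv.symm_apply_apply])
    (MonoidHom.ext fun y => by
      obtain ⟨x, rfl⟩ := hgs y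
      show φ e (φ e.symm (g x)) = g x
      rw [hφ, hφ, MulEquiv.apply_symm_apply])
  have h1 := h.2 e' (g w) hw.2
  have h2 : e' (g w) = g (e w) := hφ e w
  rw [h2] at h1
  exact h1

theorem charIn_thompsonOf (p : ℕ) (S : Subgroup X) :
    CharIn S (Cfsg.thompsonSubgroupOf p S) :=
  charIn_map_subtype S _

theorem charIn_omegaCentre (p : ℕ) (S : Subgroup X) :
    CharIn S (Cfsg.omegaOne p (S ⊓ centralizer (S : Set X))) := by
  have e : Cfsg.omegaOne p (S ⊓ centralizer (S : Set X)) =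
      (Cfsg.omegaOne p (center ↥S)).map S.subtype := by
    rw [Thompson.omegaOne_map_of_injective S.subtype_injective]
    congr 1
    ext x
    constructor
    · intro hx
      exact ⟨⟨x, hx.1⟩, mem_center_iff.2 fun s => Subtype.ext (mem_centralizer_iff.1 hx.2 s s.2), rfl⟩
    · rintro ⟨y, hy, rfl⟩
      exact ⟨y.2, mem_centralizer_iff.2 fun s hs =>
        congrArg Subtype.val (mem_center_iff.1 hy ⟨s, hs⟩)⟩
  rw [e]
  exact charIn_map_subtype S _

/-- Some `q`-element normalizing `W` does not centralize it. -/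
def QAct (q : ℕ) (W : Subgroup X) : Prop :=
  ∃ x ∈ normalizer (W : Set X), (∃ k : ℕ, orderOf x = q ^ k) ∧ x ∉ centralizer (W : Set X)

theorem QAct.map {f : X →* Y} (hf : Function.Injective f) {q : ℕ} {W : Subgroup X}
    (h : QAct q W) : QAct q (W.map f) := by
  obtain ⟨x, hx, ⟨k, hk⟩, hxc⟩ := h
  refine ⟨f x, le_normalizer_map f (mem_map_of_mem f hx), ⟨k, by rwa [orderOf_injective f hf]⟩,
    fun hc => hxc (mem_centralizer_iff.2 fun w hw => hf ?_)⟩
  rw [map_mul, map_mul]
  exact mem_centralizer_iff.1 hc _ (mem_map_of_mem f hw)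

/-- If a power of the image of `y` under `f` is the `q`-element `x`, a power of `y` is a
`q`-element with image a coprime power of `x`. -/
theorem exists_qPart [Finite X] (f : X →* Y) (q : ℕ) [Fact q.Prime] (y : X) {k : ℕ}
    (hk : orderOf (f y) = q ^ k) :
    ∃ m : ℕ, (∃ j : ℕ, orderOf (y ^ m) = q ^ j) ∧ ∃ i : ℕ, f y = (f (y ^ m)) ^ i := by
  have hn : orderOf y ≠ 0 := (orderOf_pos y).ne'
  set a := (orderOf y).factorization q
  set m := orderOf y / q ^ a
  have hdvd : q ^ a ∣ orderOf y := Nat.ordProj_dvd _ _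
  have hm : ¬ q ∣ m := Nat.not_dvd_ordCompl Fact.out hn
  refine ⟨m, ⟨a, ?_⟩, ?_⟩
  · rw [orderOf_pow' y (fun h : m = 0 => hm (by rw [h]; exact dvd_zero q)), Nat.gcd_eq_right (Nat.div_dvd_of_dvd hdvd),
      Nat.div_div_self hdvd hn]
  · have hc : m.Coprime (q ^ k) :=
      (((Fact.out : q.Prime).coprime_iff_not_dvd.2 hm).symm).pow_right k
    obtain ⟨i, hi⟩ := exists_pow_eq_self_of_coprime (x := f y) (by rw [hk]; exact hc)
    exact ⟨i, by rw [map_pow]; exact hi.symm⟩

theorem qAct_of_image [Finite X] {f : X →* Y} {q : ℕ} [Fact q.Prime] {W : Subgroup X} {y : X}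
    (hy : y ∈ normalizer (W : Set X)) (hord : ∃ k : ℕ, orderOf (f y) = q ^ k)
    (hnc : f y ∉ centralizer ((W.map f : Subgroup Y) : Set Y)) : QAct q W := by
  obtain ⟨k, hk⟩ := hord
  obtain ⟨m, hm, i, hi⟩ := exists_qPart f q y hk
  refine ⟨y ^ m, pow_mem hy m, hm, fun hc => hnc ?_⟩
  rw [hi]
  refine pow_mem (mem_centralizer_iff.2 ?_) i
  rintro _ ⟨w, hw, rfl⟩
  rw [← map_mul, ← map_mul, mem_centralizer_iff.1 hc w hw]

end Cfsg.Agent.Automizer4411
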