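import Cfsg.Agent.S3744
import Cfsg.Agent.Fg24.SylowCount.Solvable

/-!
A `p`-solvable group has a Hall `{p, q}`-subgroup.
-/

set_option autoImplicit false

namespace Cfsg.Agent.Automizer4411

open Subgroup

universe u

/-- A subgroup of order divisible by no prime other than `p, q` and index prime to both. -/
def IsPairHall (p q : ℕ) {X : Type*} [Group X] (H : Subgroup X) : Prop :=
  (∀ r : ℕ, r.Prime → r ∣ Nat.card H → r = p ∨ r = q) ∧ ¬ p ∣ H.index ∧ ¬ q ∣ H.index

variable {p q : ℕ}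

theorem IsPairHall.map_of_index {X : Type*} [Group X] {U : Subgroup X} {H : Subgroup U}
    (hp : p.Prime) (hq : q.Prime) (hH : IsPairHall p q H) (hUp : ¬ p ∣ U.index)
    (hUq : ¬ q ∣ U.index) : IsPairHall p q (H.map U.subtype) := by
  obtain ⟨h1, h2, h3⟩ := hH
  refine ⟨fun r hr hd => h1 r hr (by rwa [card_map_of_injective U.subtype_injective] at hd), ?_, ?_⟩ <;>
    rw [index_map_subtype]
  · exact fun hd => (hp.dvd_mul.1 hd).elim h2 hUp
  · exact fun hd => (hq.dvd_mul.1 hd).elim h3 hUq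

theorem exists_pairHall [hp : Fact p.Prime] [hq : Fact q.Prime] (X : Type u) [Group X] [Finite X]
    (hX : Cfsg.IsPSolvable p X) : ∃ H : Subgroup X, IsPairHall p q H := by
  induction hn : Nat.card X using Nat.strong_induction_on generalizing X with
  | _ n IH =>
  subst hn
  rcases subsingleton_or_nontrivial X with hs | hs
  · refine ⟨⊤, fun r hr hd => ?_, by simpa using hp.out.ne_one, by simpa using hq.out.ne_one⟩
    have h1 : Nat.card (⊤ : Subgroup X) = 1 := Nat.card_eq_one_iff_unique.2 ⟨inferInstance, ⟨1⟩⟩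
    rw [h1] at hd
    exact absurd (Nat.dvd_one.1 hd) hr.ne_one
  -- lifting from a quotient by a normal `{p, q}`-subgroup
  have lift : ∀ N : Subgroup X, N.Normal → N ≠ ⊥ →
      ∃ U : Subgroup X, N ≤ U ∧ (∀ r : ℕ, r.Prime → r ∣ U.index → r ≠ p ∧ r ≠ q) ∧
        ∀ r : ℕ, r.Prime → r ∣ N.relIndex U → r = p ∨ r = q := by
    intro N hN hN1
    obtain ⟨H, h1, h2, h3⟩ := IH _ (Core.card_quotient_lt hN1) (X ⧸ N)
      (Layer.isPSolvable_of_surjective hX (QuotientGroup.mk'_surjective N)) rfl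
    refine ⟨H.comap (QuotientGroup.mk' N), QuotientGroup.le_comap_mk' N H, fun r hr hd => ?_,
      fun r hr hd => h1 r hr ?_⟩
    · rw [index_comap_of_surjective _ (QuotientGroup.mk'_surjective N)] at hd
      exact ⟨fun e => h2 (e ▸ hd), fun e => h3 (e ▸ hd)⟩
    · have e : (QuotientGroup.mk' N).ker.relIndex (H.comap (QuotientGroup.mk' N)) = Nat.card H := by
        rw [← MonoidHom.comap_bot, relIndex_comap,
          map_comap_eq_self_of_surjective (QuotientGroup.mk'_surjective N), relIndex_bot_left]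
      rw [QuotientGroup.ker_mk'] at e
      rwa [← e]
  obtain ⟨N, hNn, hN1, hN⟩ := S3744.exists_normal_case hX
  haveI := hNn
  obtain ⟨U, hNU, hUi, hNUq⟩ := lift N hNn hN1
  have hUp : ¬ p ∣ U.index := fun h => (hUi p hp.out h).1 rfl
  have hUq : ¬ q ∣ U.index := fun h => (hUi q hq.out h).2 rfl
  have hcardU : Nat.card U = N.relIndex U * Nat.card N := by
    rw [relIndex, ← Nat.card_congr (subgroupOfEquivOfLe hNU).toEquiv, index_mul_card]
  rcases hN with hNp | hNc
  · refine ⟨U, fun r hr hd => ?_, hUp, hUq⟩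
    rw [hcardU] at hd
    rcases hr.dvd_mul.1 hd with h | h
    · exact hNUq r hr h
    · obtain ⟨k, hk⟩ := IsPGroup.iff_card.1 hNp
      exact Or.inl ((Nat.prime_dvd_prime_iff_eq hr hp.out).1 (hr.dvd_of_dvd_pow (hk ▸ h)))
  by_cases hU : U = ⊤
  swap
  · obtain ⟨H, hH⟩ := IH _ (Core.card_lt_of_ne_top hU) U (Offender.isPSolvable_subgroup hX U) rfl
    exact ⟨_, hH.map_of_index hp.out hq.out hUp hUq⟩
  subst hU
  have hNidx : ∀ r : ℕ, r.Prime → r ∣ N.index → r = p ∨ r = q := fun r hr hd =>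
    hNUq r hr (by rwa [relIndex_top_right])
  obtain ⟨Q⟩ := (inferInstance : Nonempty (Sylow q N))
  set Q0 := (Q : Subgroup N).map N.subtype with hQ0
  set M := normalizer (Q0 : Set X) with hM
  have hsup : M ⊔ N = ⊤ := Sylow.normalizer_sup_eq_top Q
  by_cases hMt : M = ⊤
  swap
  · -- Frattini
    have hQM : Q0 ≤ M ⊓ N := le_inf le_normalizer (map_subtype_le _)
    have hc := Core.card_sup_mul_card_inf M N
    rw [hsup, Nat.card_congr (Subgroup.topEquiv (G := X)).toEquiv, ← M.card_mul_index,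
      mul_assoc] at hc
    have hc' : M.index * Nat.card (M ⊓ N : Subgroup X) = Nat.card N :=
      Nat.eq_of_mul_eq_mul_left Nat.card_pos hc
    have hMp : ¬ p ∣ M.index := fun h =>
      (Nat.Prime.coprime_iff_not_dvd hp.out).1 hNc.symm (h.trans ⟨_, hc'.symm⟩)
    have hMq : ¬ q ∣ M.index := fun h => by
      obtain ⟨c, hc2⟩ := card_dvd_of_le hQM
      rw [card_map_of_injective N.subtype_injective] at hc2
      rw [hc2, ← (Q : Subgroup N).card_mul_index, mul_left_comm] at hc'
      have h2 : M.index * c = (Q : Subgroup N).index := Nat.eq_of_mul_eq_mul_left Nat.card_pos hc'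
      exact Q.not_dvd_index (h2 ▸ Dvd.dvd.mul_right h c)
    obtain ⟨H, hH⟩ := IH _ (Core.card_lt_of_ne_top hMt) M (Offender.isPSolvable_subgroup hX M) rfl
    exact ⟨_, hH.map_of_index hp.out hq.out hMp hMq⟩
  haveI hQn : Q0.Normal := normalizer_eq_top_iff.1 hMt
  by_cases hQ1 : Q0 = ⊥
  · -- `N` is prime to `p` and `q`: a complement of `N` works
    have hqN : ¬ q ∣ Nat.card N := by
      have hQbot : (Q : Subgroup N) = ⊥ := (map_eq_bot_iff_of_injective _ N.subtype_injective).1 hQ1
      have := Q.not_dvd_index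
      rwa [hQbot, index_bot] at this
    have hpN : ¬ p ∣ Nat.card N := (Nat.Prime.coprime_iff_not_dvd hp.out).1 hNc.symm
    have hcop : (Nat.card N).Coprime N.index := Nat.coprime_of_dvd' fun r hr hrN hrI => by
      rcases hNidx r hr hrI with rfl | rfl
      · exact absurd hrN hpN
      · exact absurd hrN hqN
    obtain ⟨L, hL⟩ := exists_right_complement'_of_coprime hcop
    refine ⟨L, fun r hr hd => hNidx r hr ?_, ?_, ?_⟩
    · rwa [hL.symm.index_eq_card]
    · rwa [hL.index_eq_card]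
    · rwa [hL.index_eq_card]
  · obtain ⟨U', hQU, hU'i, hU'q⟩ := lift Q0 hQn hQ1
    refine ⟨U', fun r hr hd => ?_, fun h => (hU'i p hp.out h).1 rfl,
      fun h => (hU'i q hq.out h).2 rfl⟩
    rw [show Nat.card U' = Q0.relIndex U' * Nat.card Q0 by
      rw [relIndex, ← Nat.card_congr (subgroupOfEquivOfLe hQU).toEquiv, index_mul_card]] at hd
    rcases hr.dvd_mul.1 hd with h | h
    · exact hU'q r hr h
    · obtain ⟨k, hk⟩ := IsPGroup.iff_card.1 (Q.isPGroup'.map N.subtype)
      exact Or.inr ((Nat.prime_dvd_prime_iff_eq hr hq.out).1 (hr.dvd_of_dvd_pow (hk ▸ h)))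

end Cfsg.Agent.Automizer4411
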