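import Cfsg.Agent.Automizer4411.CharIn
import Cfsg.Agent.Automizer4411.HallPair
import Cfsg.Agent.S0618
import Cfsg.Agent.Layer.PConstraint

/-!
In a `p`-constrained `{p, q}`-group, `{p, q} ≠ {2, 3}`, with `q` dividing the order, some `q`-element
acts nontrivially on a subgroup invariant under the automorphisms of a Sylow `p`-subgroup.
-/

set_option autoImplicit false

namespace Cfsg.Agent.Automizer4411

open Subgroup

universe u

variable {p q : ℕ}

/-- An element of order three of `SL(2, 2)`. -/
def slTwoElt : Matrix.SpecialLinearGroup (Fin 2) (ZMod 2) := ⟨!![0, 1; 1, 1], by decide⟩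

/-- An element of order two of `SL(2, 3)`. -/
def slThreeElt : Matrix.SpecialLinearGroup (Fin 2) (ZMod 3) := ⟨!![2, 0; 0, 2], by decide⟩

theorem dvd_card_sl2 :
    3 ∣ Nat.card (Matrix.SpecialLinearGroup (Fin 2) (ZMod 2)) ∧
      2 ∣ Nat.card (Matrix.SpecialLinearGroup (Fin 2) (ZMod 3)) := by
  constructor
  · have h : orderOf slTwoElt = 3 :=
      @orderOf_eq_prime _ _ _ 3 ⟨Nat.prime_three⟩ (by decide) (by decide)
    have h2 := orderOf_dvd_natCard slTwoElt
    rwa [h] at h2
  · have h : orderOf slThreeElt = 2 :=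
      @orderOf_eq_prime _ _ _ 2 ⟨Nat.prime_two⟩ (by decide) (by decide)
    have h2 := orderOf_dvd_natCard slThreeElt
    rwa [h] at h2

theorem isThompsonFactorizable [hp : Fact p.Prime] [hq : Fact q.Prime] {X : Type u} [Group X]
    [Finite X] (h23 : ¬ ((p = 2 ∧ q = 3) ∨ (p = 3 ∧ q = 2))) (hsol : Cfsg.IsPSolvable p X)
    (hO : Cfsg.pPrimeCore p X = ⊥)
    (hpr : ∀ r : ℕ, r.Prime → r ∣ Nat.card X → r = p ∨ r = q) :
    Cfsg.IsThompsonFactorizable p X := by
  by_contra h
  obtain ⟨hp23, E, -, -, -, hn, ⟨e⟩⟩ := S0618.result hsol hO h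
  haveI := hn
  have hd : Nat.card (Matrix.SpecialLinearGroup (Fin 2) (ZMod p)) ∣ Nat.card X := by
    rw [← Nat.card_congr e.toEquiv]
    exact (card_quotient_dvd_card _).trans E.card_subgroup_dvd_card
  rcases hp23 with rfl | rfl
  · rcases hpr 3 Nat.prime_three (dvd_card_sl2.1.trans hd) with h' | h'
    · omega
    · exact h23 (Or.inl ⟨rfl, h'.symm⟩)
  · rcases hpr 2 Nat.prime_two (dvd_card_sl2.2.trans hd) with h' | h'
    · omega
    · exact h23 (Or.inr ⟨rfl, h'.symm⟩)

theorem exists_qAct_charIn [hp : Fact p.Prime] [hq : Fact q.Prime] (hpq : p ≠ q)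
    (h23 : ¬ ((p = 2 ∧ q = 3) ∨ (p = 3 ∧ q = 2))) (X : Type u) [Group X] [Finite X]
    (hsol : Cfsg.IsPSolvable p X) (hpr : ∀ r : ℕ, r.Prime → r ∣ Nat.card X → r = p ∨ r = q)
    (hcon : Layer.PCoreSelfCentral p X) (hqX : q ∣ Nat.card X) (S : Sylow p X) :
    ∃ W : Subgroup X, CharIn (S : Subgroup X) W ∧ QAct q W := by
  induction hn : Nat.card X using Nat.strong_induction_on generalizing X with
  | _ n IH =>
  subst hn
  have hO := Layer.pPrimeCore_eq_bot_of_selfCentral hcon
  have hnotp : ¬ IsPGroup p X := fun h => by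
    obtain ⟨k, hk⟩ := IsPGroup.iff_card.1 h
    exact hpq ((Nat.prime_dvd_prime_iff_eq hq.out hp.out).1 (hq.out.dvd_of_dvd_pow (hk ▸ hqX))).symm
  have hS1 : (S : Subgroup X) ≠ ⊥ := by
    intro hb
    have hcore : Cfsg.pCore p X = ⊥ := le_bot_iff.1 ((Core.pCore_le_sylow S).trans hb.le)
    refine hnotp ?_
    have hc' : centralizer (Cfsg.pCore p X : Set X) ≤ Cfsg.pCore p X := hcon
    rw [hcore] at hc'
    have htop : (⊤ : Subgroup X) ≤ ⊥ := fun x _ => hc' (mem_centralizer_iff.2 fun y hy => by
      rw [mem_bot.1 hy, one_mul, mul_one])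
    intro x
    exact ⟨0, by simpa using mem_bot.1 (htop (mem_top x))⟩
  -- reduction: a nontrivial normal subgroup inside `S`, invariant, centralized by all `q`-elements
  have quot : ∀ K : Subgroup X, CharIn (S : Subgroup X) K → K.Normal → K ≠ ⊥ →
      (∀ x : X, (∃ k : ℕ, orderOf x = q ^ k) → x ∈ centralizer (K : Set X)) →
      ∃ W : Subgroup X, CharIn (S : Subgroup X) W ∧ QAct q W := by
    intro K hKc hKn hK1 hKq
    haveI := hKn
    set f := QuotientGroup.mk' K with hf
    have hfs : Function.Surjective f := QuotientGroup.mk'_surjective K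
    have hker : f.ker = K := QuotientGroup.ker_mk' K
    have hsol' := Layer.isPSolvable_of_surjective hsol hfs
    have hdvd : Nat.card (X ⧸ K) ∣ Nat.card X := card_quotient_dvd_card K
    have hKp : IsPGroup p K := S.isPGroup'.to_le hKc.1
    have hO' : Cfsg.pPrimeCore p (X ⧸ K) = ⊥ := by
      set O := Cfsg.pPrimeCore p (X ⧸ K) with hOdef
      set M := O.comap f with hM
      haveI hMn : M.Normal := Core.pPrimeCore_normal.comap f
      have hKM : K ≤ M := hker ▸ ker_le_comap f O
      have hcM : K.relIndex M = Nat.card O := by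
        conv_lhs => rw [← hker, ← MonoidHom.comap_bot, hM, relIndex_comap,
          map_comap_eq_self_of_surjective hfs, relIndex_bot_left]
      obtain ⟨a, ha⟩ := IsPGroup.iff_card.1 hKp
      haveI : (K.subgroupOf M).Normal := inferInstance
      obtain ⟨L, hL⟩ := exists_right_complement'_of_coprime (N := K.subgroupOf M) (by
        rw [Nat.card_congr (subgroupOfEquivOfLe hKM).toEquiv, ha, ← relIndex, hcM]
        exact (Core.coprime_card_pPrimeCore.symm.pow_left a))
      have hLcard : Nat.card L = Nat.card O := by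
        rw [← hcM, relIndex, hL.symm.index_eq_card]
      -- every element of the complement is a `q`-element
      have hLq : ∀ l : L, ∃ k : ℕ, orderOf ((l : M) : X) = q ^ k := by
        intro l
        rw [orderOf_coe, orderOf_coe]
        have hcop : (orderOf l).Coprime p := by
          refine Nat.Coprime.coprime_dvd_left (hLcard ▸ orderOf_dvd_natCard l) ?_
          exact Core.coprime_card_pPrimeCore
        refine ⟨(orderOf l).primeFactorsList.length, Nat.eq_prime_pow_of_unique_prime_dvd
          (orderOf_pos l).ne' fun {r} hr hd => ?_⟩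
        rcases hpr r hr (hd.trans ((orderOf_dvd_natCard l).trans
          (L.card_subgroup_dvd_card.trans M.card_subgroup_dvd_card))) with rfl | h
        · exact absurd hd ((Nat.Prime.coprime_iff_not_dvd hr).1 hcop.symm)
        · exact h
      have hLn : L.Normal := by
        rw [← normalizer_eq_top_iff, eq_top_iff, ← hL.sup_eq_top]
        refine sup_le (le_trans ?_ (centralizer_le_normalizer _)) le_normalizer
        intro k hk
        rw [mem_centralizer_iff]
        intro l hl
        exact Subtype.ext (mem_centralizer_iff.1 (hKq _ (hLq ⟨l, hl⟩)) (k : X) hk).symm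
      have hLbot : L.map M.subtype = ⊥ := by
        refine le_bot_iff.1 (le_trans ?_ hO.le)
        refine Layer.subnormal_le_pPrimeCore (hLn.isSubnormal.trans'
          (Subgroup.Normal.isSubnormal inferInstance)) ?_
        rw [card_map_of_injective M.subtype_injective, hLcard]
        exact Core.coprime_card_pPrimeCore
      rw [map_eq_bot_iff_of_injective _ M.subtype_injective] at hLbot
      rw [hLbot, card_bot] at hLcard
      exact card_eq_one.1 hLcard.symm
    have hcon' : Layer.PCoreSelfCentral p (X ⧸ K) := Layer.pCoreSelfCentral_of_isPSolvable hsol' hO'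
    have hqX' : q ∣ Nat.card (X ⧸ K) := by
      rw [← K.index_mul_card] at hqX
      rcases hq.out.dvd_mul.1 hqX with h | h
      · exact h
      · obtain ⟨a, ha⟩ := IsPGroup.iff_card.1 hKp
        exact absurd ((Nat.prime_dvd_prime_iff_eq hq.out hp.out).1
          (hq.out.dvd_of_dvd_pow (ha ▸ h))).symm hpq
    obtain ⟨W, hW, x, hx, hxo, hxc⟩ := IH _ (Core.card_quotient_lt hK1) (X ⧸ K) hsol'
      (fun r hr hd => hpr r hr (hd.trans hdvd)) hcon' hqX' (S.mapSurjective hfs) rfl
    have hW' : CharIn ((S : Subgroup X).map f) W := by rwa [Sylow.coe_mapSurjective] at hW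
    have hle : W.comap f ≤ S := by
      refine (comap_mono hW'.1).trans ?_
      rw [comap_map_eq, hker]
      exact sup_le le_rfl hKc.1
    refine ⟨W.comap f, ?_, ?_⟩
    · have h0 := CharIn.comap (f := f) (S := (S : Subgroup X))
        (by rwa [hker, inf_eq_right.2 hKc.1]) hW'
      rwa [inf_eq_right.2 hle] at h0
    · obtain ⟨y, rfl⟩ := hfs x
      refine qAct_of_image (f := f) (y := y) ?_ hxo ?_
      · exact le_normalizer_comap f (mem_comap.2 hx)
      · rwa [map_comap_eq_self_of_surjective hfs]
  set J := Cfsg.thompsonSubgroupOf p (S : Subgroup X) with hJ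
  have hJc := charIn_thompsonOf p (S : Subgroup X)
  have hJ1 : J ≠ ⊥ := by
    intro hb
    obtain ⟨A, hA⟩ := Thompson.exists_maxEA p ↥(S : Subgroup X)
    have hle : A ≤ ⊥ := by
      intro a ha
      have : (a : X) ∈ J := mem_map_of_mem _ (Thompson.le_thompson hA ha)
      rw [hb] at this
      exact mem_bot.2 (Subtype.ext (mem_bot.1 this))
    haveI : Nontrivial ↥(S : Subgroup X) := (nontrivial_iff_ne_bot _).2 hS1
    obtain ⟨k, hk0, hk⟩ := S.isPGroup'.nontrivial_iff_card.1 inferInstance
    obtain ⟨c, hc⟩ := exists_prime_orderOf_dvd_card' (G := ↥(S : Subgroup X)) p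
      (hk ▸ dvd_pow_self p hk0.ne')
    have hbig := hA.2 (zpowers c) (Thompson.ea_zpowers (orderOf_dvd_iff_pow_eq_one.1 hc.dvd))
    rw [le_bot_iff.1 hle, card_bot, Nat.card_zpowers, hc] at hbig
    exact absurd hbig (not_le.2 hp.out.one_lt)
  by_cases hqN : q ∣ Nat.card (normalizer (J : Set X))
  · by_cases hNt : normalizer (J : Set X) = ⊤
    · haveI hJn : J.Normal := normalizer_eq_top_iff.1 hNt
      by_cases hall : ∀ x : X, (∃ k : ℕ, orderOf x = q ^ k) → x ∈ centralizer (J : Set X)
      · exact quot J hJc hJn hJ1 hall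
      · push Not at hall
        obtain ⟨x, hx, hxc⟩ := hall
        exact ⟨J, hJc, x, by rw [hNt]; exact mem_top x, hx, hxc⟩
    · set N := normalizer (J : Set X) with hN
      have hSN : (S : Subgroup X) ≤ N := le_normalizer.trans hJc.normalizer_le
      have hcon1 : Layer.PCoreSelfCentral p ↥N := by
        intro x hx
        have hP : (Cfsg.pCore p X).subgroupOf N ≤ Cfsg.pCore p ↥N :=
          Core.le_pCore (Core.pCore_isPGroup.comap_of_injective _ N.subtype_injective)
        refine hP ?_
        refine mem_subgroupOf.2 (hcon (mem_centralizer_iff.2 fun y hy => ?_))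
        exact congrArg Subtype.val (mem_centralizer_iff.1 hx
          ⟨y, hSN (Core.pCore_le_sylow S hy)⟩ (hP (mem_subgroupOf.2 hy)))
      obtain ⟨W, hW, hQ⟩ := IH _ (Core.card_lt_of_ne_top hNt) ↥N
        (Offender.isPSolvable_subgroup hsol N)
        (fun r hr hd => hpr r hr (hd.trans N.card_subgroup_dvd_card)) hcon1 hqN (S.subtype hSN) rfl
      refine ⟨W.map N.subtype, ?_, hQ.map N.subtype_injective⟩
      have h0 := hW.map N.subtype_injective
      rwa [Sylow.coe_subtype, subgroupOf_map_subtype, inf_eq_left.2 hSN] at h0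
  · set Z := Cfsg.omegaOne p ((S : Subgroup X) ⊓ centralizer ((S : Subgroup X) : Set X)) with hZ
    have hZc : CharIn (S : Subgroup X) Z := charIn_omegaCentre p _
    have hSZ : (S : Subgroup X) ≤ centralizer (Z : Set X) := by
      rw [le_centralizer_iff]
      exact (Thompson.omegaOne_le p _).trans inf_le_right
    have hNS : normalizer (J : Set X) = S := by
      refine (S.3 ?_ (le_normalizer.trans hJc.normalizer_le))
      intro g
      refine ⟨(orderOf g).primeFactorsList.length, ?_⟩
      have hpow : orderOf g = p ^ (orderOf g).primeFactorsList.length :=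
        Nat.eq_prime_pow_of_unique_prime_dvd (orderOf_pos g).ne' fun {r} hr hd => by
          rcases hpr r hr (hd.trans ((orderOf_dvd_natCard g).trans
            (card_subgroup_dvd_card _))) with h | h
          · exact h
          · exact absurd (h ▸ hd.trans (orderOf_dvd_natCard g)) hqN
      rw [← hpow, pow_orderOf_eq_one]
    have hCtop : centralizer (Z : Set X) = ⊤ := by
      rw [eq_top_iff]
      intro g _
      obtain ⟨x, hx, c, hc, m, hm, rfl⟩ := isThompsonFactorizable h23 hsol hO hpr S g
      rw [hO, mem_bot] at hx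
      rw [hx, one_mul]
      exact mul_mem hc (hSZ (hNS ▸ hm))
    haveI hZn : Z.Normal := by
      refine normalizer_eq_top_iff.1 (eq_top_iff.2 ?_)
      rw [← hCtop]
      exact centralizer_le_normalizer _
    have hZ1 : Z ≠ ⊥ := by
      intro hb
      haveI : Nontrivial ↥(S : Subgroup X) := (nontrivial_iff_ne_bot _).2 hS1
      haveI := S.isPGroup'.center_nontrivial
      obtain ⟨k, hk0, hk⟩ := (S.isPGroup'.to_subgroup (center ↥(S : Subgroup X))).nontrivial_iff_card.1
        inferInstance
      obtain ⟨c, hc⟩ := exists_prime_orderOf_dvd_card' (G := center ↥(S : Subgroup X)) p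
        (hk ▸ dvd_pow_self p hk0.ne')
      have hcZ : ((c : ↥(S : Subgroup X)) : X) ∈ Z := by
        refine Thompson.mem_omegaOne ⟨c.1.2, mem_centralizer_iff.2 fun s hs =>
          congrArg Subtype.val (mem_center_iff.1 c.2 ⟨s, hs⟩)⟩ ?_
        have : c ^ p = 1 := orderOf_dvd_iff_pow_eq_one.1 hc.dvd
        simpa using congrArg (fun t : center ↥(S : Subgroup X) => ((t : ↥(S : Subgroup X)) : X)) this
      rw [hb, mem_bot] at hcZ
      have : c = 1 := Subtype.ext (Subtype.ext hcZ)
      rw [this, orderOf_one] at hc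
      exact hp.out.ne_one hc.symm
    exact quot Z hZc hZn hZ1 fun x _ => by rw [hCtop]; exact mem_top x

end Cfsg.Agent.Automizer4411
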