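import Cfsg.Agent.Automizer4411.Core
import Cfsg.Agent.PairPSolv.Main
import Mathlib.GroupTheory.Perm.Cycle.Type

/-!
A prime dividing some automizer of a `p`-subgroup divides the automizer of a subgroup normal in a
Sylow `p`-subgroup, when the automizers are `p`-solvable and `{p, q} ≠ {2, 3}`.
-/

set_option autoImplicit false

namespace Cfsg.Agent.Automizer4411

open Subgroup

universe u

variable {G : Type u} [Group G] [Finite G] {p q : ℕ}

theorem QAct.dvd_index [hq : Fact q.Prime] {H : Subgroup G} (h : QAct q H) :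
    q ∣ ((centralizer (H : Set G)).subgroupOf (normalizer (H : Set G))).index := by
  obtain ⟨x, hx, ⟨k, hk⟩, hxc⟩ := h
  set C := (centralizer (H : Set G)).subgroupOf (normalizer (H : Set G))
  have hne : QuotientGroup.mk' C ⟨x, hx⟩ ≠ 1 := fun h => hxc (mem_subgroupOf.1
    ((QuotientGroup.eq_one_iff _).1 h))
  have hd : orderOf (QuotientGroup.mk' C ⟨x, hx⟩) ∣ q ^ k := by
    refine (orderOf_map_dvd _ _).trans ?_
    rw [← hk, ← orderOf_coe]
  obtain ⟨j, -, hj⟩ := (Nat.dvd_prime_pow hq.out).1 hd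
  have hj0 : j ≠ 0 := fun h => hne (orderOf_eq_one_iff.1 (by rw [hj, h, pow_zero]))
  rw [index_eq_card]
  exact ((dvd_pow_self q hj0).trans hj.symm.dvd).trans (orderOf_dvd_natCard _)

theorem qAct_of_dvd_index [hq : Fact q.Prime] {H : Subgroup G}
    (h : q ∣ ((centralizer (H : Set G)).subgroupOf (normalizer (H : Set G))).index) :
    QAct q H := by
  set C := (centralizer (H : Set G)).subgroupOf (normalizer (H : Set G))
  rw [index_eq_card] at h
  obtain ⟨x, hx⟩ := exists_prime_orderOf_dvd_card' q h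
  obtain ⟨y, rfl⟩ := QuotientGroup.mk'_surjective C x
  obtain ⟨m, ⟨j, hj⟩, i, hi⟩ := exists_qPart (QuotientGroup.mk' C) q y (k := 1) (by rw [pow_one, hx])
  refine ⟨((y ^ m : normalizer (H : Set G)) : G), (y ^ m).2, ⟨j, by rw [orderOf_coe, hj]⟩,
    fun hc => ?_⟩
  have h1 : QuotientGroup.mk' C (y ^ m) = 1 := (QuotientGroup.eq_one_iff _).2 (mem_subgroupOf.2 hc)
  rw [h1, one_pow] at hi
  rw [hi, orderOf_one] at hx
  exact hq.out.ne_one hx.symm

theorem QAct.conj {H : Subgroup G} (h : QAct q H) (g : G) :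
    QAct q (H.map (MulAut.conj g).toMonoidHom) :=
  h.map (MulAut.conj g).injective

/-- The largest `p`-part of the orders of the normalisers. -/
noncomputable def sylSize (p : ℕ) (H : Subgroup G) : ℕ :=
  (Nat.card (normalizer (H : Set G))).factorization p

theorem card_pGroup_le [Fact p.Prime] {P U : Subgroup G} (hP : IsPGroup p P) (h : P ≤ U) :
    Nat.card P ≤ p ^ (Nat.card U).factorization p := by
  obtain ⟨k, hk⟩ := IsPGroup.iff_card.1 hP
  have hd := card_dvd_of_le h
  rw [hk] at hd ⊢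
  exact Nat.pow_le_pow_right (Fact.out : p.Prime).pos
    (((Fact.out : p.Prime).pow_dvd_iff_le_factorization Nat.card_pos.ne').1 hd)

theorem relIndex_normal_dvd_index {X : Type*} [Group X] [Finite X] (P K : Subgroup X) [K.Normal] :
    P.relIndex K ∣ P.index := by
  have h1 := relIndex_mul_relIndex (P ⊓ K) P (P ⊔ K) inf_le_left le_sup_left
  have h2 := relIndex_mul_relIndex (P ⊓ K) K (P ⊔ K) inf_le_right le_sup_right
  rw [inf_relIndex_right] at h2
  rw [inf_relIndex_left] at h1
  rw [relIndex_sup_right, ← h1, mul_comm (K.relIndex P)] at h2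
  have hne : K.relIndex P ≠ 0 := index_ne_zero_of_finite
  rw [Nat.eq_of_mul_eq_mul_right (Nat.pos_of_ne_zero hne) h2]
  exact ⟨(P ⊔ K).index, (relIndex_mul_index le_sup_left).symm⟩

/-- The main step: a subgroup whose normaliser has a larger Sylow `p`-subgroup. -/
theorem exists_larger [hp : Fact p.Prime] [hq : Fact q.Prime] (hpq : p ≠ q)
    (h23 : ¬ ((p = 2 ∧ q = 3) ∨ (p = 3 ∧ q = 2)))
    (hsol : ∀ H : Subgroup G, IsPGroup p H → Cfsg.IsPSolvable p
      (↥(normalizer (H : Set G)) ⧸ (centralizer (H : Set G)).subgroupOf (normalizer (H : Set G))))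
    (H P0 : Subgroup G) (hH : IsPGroup p H) (hQ : QAct q H) (hP0 : IsPGroup p P0)
    (hP0N : P0 ≤ normalizer (H : Set G))
    (hP0s : ¬ p ∣ P0.relIndex (normalizer (H : Set G)))
    (Gp : Sylow p G) (hP0G : P0 ≤ Gp) (hlt : P0 ≠ (Gp : Subgroup G)) :
    ∃ W : Subgroup G, IsPGroup p W ∧ QAct q W ∧ sylSize p H < sylSize p W := by
  set N := normalizer (H : Set G) with hN
  set C := centralizer (H : Set G) with hC
  have hCN : C ≤ N := centralizer_le_normalizer _
  haveI hCn : (C.subgroupOf N).Normal := by rw [hC, hN]; exact inferInstance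
  haveI hHn : (H.subgroupOf N).Normal := Subgroup.normal_in_normalizer (H := H)
  -- a Sylow subgroup of `N`
  let T : Sylow p N := (hP0.comap_of_injective N.subtype N.subtype_injective).toSylow hP0s
  have hT : (T : Subgroup N) = P0.subgroupOf N := rfl
  have hHP : H ≤ P0 := by
    have h1 := hH.comap_of_injective N.subtype N.subtype_injective
    haveI : (H.comap N.subtype).Normal := hHn
    have h2 : H.subgroupOf N ≤ (T : Subgroup N) := IsPGroup.le_sylow_of_normal h1 T
    intro x hx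
    exact mem_subgroupOf.1 (h2 (mem_subgroupOf.2 hx : (⟨x, le_normalizer hx⟩ : N) ∈ H.subgroupOf N))
  set HC := H.subgroupOf N ⊔ C.subgroupOf N with hHC
  haveI hHCn : HC.Normal := sup_normal _ _
  set Hs := P0 ⊓ HC.map N.subtype with hHs
  have hHsH : H ≤ Hs := le_inf hHP fun x hx => ⟨⟨x, le_normalizer hx⟩, mem_sup_left hx, rfl⟩
  have hHsp : IsPGroup p Hs := hP0.to_le inf_le_left
  have hP0Hs : P0 ≤ normalizer (Hs : Set G) := by
    have h1 : P0 ≤ normalizer ((HC.map N.subtype : Subgroup G) : Set G) := by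
      refine hP0N.trans ?_
      refine le_trans ?_ (le_normalizer_map N.subtype)
      rw [normalizer_eq_top_iff.2 hHCn, ← MonoidHom.range_eq_map, range_subtype]
    exact Cfsg.Agent.Coprime.le_normalizer_inf le_normalizer h1
  set N1 := N ⊓ normalizer (Hs : Set G) with hN1
  have hN1N : N1 ≤ N := inf_le_left
  have hN1Hs : N1 ≤ normalizer (Hs : Set G) := inf_le_right
  have hP0N1 : P0 ≤ N1 := le_inf hP0N hP0Hs
  -- `q` acts nontrivially on `Hs`
  have hQs : ∃ x ∈ N1, (∃ k, orderOf x = q ^ k) ∧ x ∉ centralizer (Hs : Set G) := by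
    obtain ⟨x, hx, ⟨k, hk⟩, hxc⟩ := hQ
    set f := QuotientGroup.mk' HC
    -- Frattini
    have hHsylow : ¬ p ∣ (Hs.subgroupOf N).relIndex HC := by
      have he : Hs.subgroupOf N = P0.subgroupOf N ⊓ HC := by
        rw [hHs, subgroupOf, comap_inf, comap_map_eq_self_of_injective N.subtype_injective]
        rfl
      rw [he, inf_relIndex_right]
      exact fun h => hP0s (h.trans (relIndex_normal_dvd_index _ HC))
    let Ts : Sylow p HC := IsPGroup.toSylow ((hHsp.comap_of_injective _ N.subtype_injective).comap_of_injective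
      _ HC.subtype_injective) hHsylow
    have hTs : (Ts : Subgroup HC).map HC.subtype = Hs.subgroupOf N := by
      show ((Hs.subgroupOf N).subgroupOf HC).map HC.subtype = _
      rw [subgroupOf_map_subtype, inf_eq_left]
      intro z hz
      obtain ⟨w, hw, hwz⟩ := (mem_subgroupOf.1 hz).2
      exact (Subtype.ext hwz : w = z) ▸ hw
    have hfrat : normalizer ((Hs.subgroupOf N : Subgroup N) : Set N) ⊔ HC = ⊤ :=
      hTs ▸ Sylow.normalizer_sup_eq_top Ts
    have hxm : (⟨x, hx⟩ : N) ∈ normalizer ((Hs.subgroupOf N : Subgroup N) : Set N) ⊔ HC :=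
      hfrat ▸ mem_top _
    rw [← SetLike.mem_coe, mul_normal] at hxm
    obtain ⟨n, hn, c, hc, hnc⟩ := hxm
    have hnN1 : (n : G) ∈ N1 := by
      refine ⟨n.2, mem_normalizer_iff.2 fun z => ?_⟩
      constructor
      · intro hz
        exact (mem_normalizer_iff.1 hn ⟨z, hP0N hz.1⟩).1 hz
      · intro hz
        have hzN : z ∈ N := by
          have := mul_mem (mul_mem (inv_mem n.2) (hP0N hz.1)) n.2
          simpa [mul_assoc] using this
        exact (mem_normalizer_iff.1 hn ⟨z, hzN⟩).2 hz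
    -- a `q`-power of `n`
    have hfn : f n = f ⟨x, hx⟩ := by
      rw [← hnc, map_mul]
      have : f c = 1 := (QuotientGroup.eq_one_iff _).2 hc
      rw [this, mul_one]
    have hfo : orderOf (f n) ∣ q ^ k := by
      rw [hfn]
      refine (orderOf_map_dvd _ _).trans ?_
      rw [← hk, ← orderOf_coe]
    obtain ⟨j, -, hj⟩ := (Nat.dvd_prime_pow hq.out).1 hfo
    obtain ⟨m, ⟨a, ha⟩, i, hi⟩ := exists_qPart f q n hj
    refine ⟨((n ^ m : N) : G), by rw [SubgroupClass.coe_pow]; exact pow_mem hnN1 m,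
      ⟨a, by rw [orderOf_coe, ha]⟩, fun hcz => hxc ?_⟩
    have hc1 : f (n ^ m) = 1 := (QuotientGroup.eq_one_iff _).2 (mem_sup_right
      (mem_subgroupOf.2 (centralizer_le hHsH hcz)))
    rw [hc1, one_pow, hfn] at hi
    have hxHC : (⟨x, hx⟩ : N) ∈ HC := (QuotientGroup.eq_one_iff _).1 hi
    -- a `q`-element of `H C` centralizes `H`
    set g := QuotientGroup.mk' (C.subgroupOf N)
    have himg : g ⟨x, hx⟩ ∈ (H.subgroupOf N).map g := by
      have h2 : HC.map g = (H.subgroupOf N).map g := by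
        rw [hHC, Subgroup.map_sup, (Subgroup.map_eq_bot_iff _).2 (QuotientGroup.ker_mk' _).ge, sup_bot_eq]
      exact h2 ▸ mem_map_of_mem g hxHC
    obtain ⟨b, hb⟩ := ((hH.comap_of_injective N.subtype N.subtype_injective).map g) ⟨_, himg⟩
    have hb' : g ⟨x, hx⟩ ^ p ^ b = 1 := congrArg Subtype.val hb
    have hk' : g ⟨x, hx⟩ ^ q ^ k = 1 := by
      rw [← map_pow, ← map_one g]
      congr 1
      exact Subtype.ext (by rw [SubgroupClass.coe_pow, ← hk]; exact pow_orderOf_eq_one x)
    have hone : orderOf (g ⟨x, hx⟩) = 1 := Nat.eq_one_of_dvd_one (by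
      rw [← ((Nat.coprime_primes hp.out hq.out).2 hpq).pow b k]
      exact Nat.dvd_gcd (orderOf_dvd_of_pow_eq_one hb') (orderOf_dvd_of_pow_eq_one hk'))
    exact mem_subgroupOf.1 ((QuotientGroup.eq_one_iff _).1 (orderOf_eq_one_iff.1 hone))
  -- inside `N1`
  set C1 := centralizer (Hs : Set G) with hC1
  have hC1N1 : C1 ≤ N1 := le_inf ((centralizer_le hHsH).trans hCN) (centralizer_le_normalizer _)
  set C1' := C1.subgroupOf N1 with hC1'
  have hC1'eq : C1' = ((C1.subgroupOf (normalizer (Hs : Set G))).comap (inclusion hN1Hs)) := rfl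
  haveI hC1n : C1'.Normal := by rw [hC1'eq]; exact inferInstance
  set P1 := P0.subgroupOf N1 with hP1
  have hP1p : IsPGroup p P1 := hP0.comap_of_injective _ N1.subtype_injective
  have hP1i : ¬ p ∣ P1.index := by
    intro h
    refine hP0s (h.trans ?_)
    exact ⟨N1.relIndex N, (relIndex_mul_relIndex P0 N1 N hP0N1 hN1N).symm⟩
  -- the normal `p'`-part of the centralizer
  set Zc := P1.subgroupOf C1' with hZc
  have hZcen : ∀ z : C1', z ∈ Zc → ((z : N1) : G) ∈ Hs := fun z hz =>
    ⟨hz, ⟨⟨((z : N1) : G), hN1N (z : N1).2⟩,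
      mem_sup_right (mem_subgroupOf.2 (centralizer_le hHsH z.2)), rfl⟩⟩
  have hZc' : Zc ≤ center C1' := fun z hz => mem_center_iff.2 fun c =>
    Subtype.ext (Subtype.ext (mem_centralizer_iff.1 c.2 _ (hZcen z hz)).symm)
  haveI hZn : Zc.Normal := ⟨fun z hz c => by
    rw [mem_center_iff.1 (hZc' hz) c, mul_inv_cancel_right]; exact hz⟩
  have hZi : ¬ p ∣ Zc.index := fun h => hP1i (h.trans (relIndex_normal_dvd_index P1 C1'))
  have hZp : IsPGroup p Zc := hP1p.comap_of_injective _ C1'.subtype_injective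
  obtain ⟨a, ha⟩ := IsPGroup.iff_card.1 hZp
  obtain ⟨L0, hL0⟩ := exists_right_complement'_of_coprime (N := Zc) (by
    rw [ha]; exact (hp.out.coprime_iff_not_dvd.2 hZi).pow_left a)
  have hL0c : (Nat.card L0).Coprime p := by
    rw [← hL0.symm.index_eq_card]; exact (hp.out.coprime_iff_not_dvd.2 hZi).symm
  haveI hL0n : L0.Normal := by
    rw [← normalizer_eq_top_iff, eq_top_iff, ← hL0.sup_eq_top]
    exact sup_le (hZc'.trans (center_le_normalizer _)) le_normalizer
  have hsolC1 : Cfsg.IsPSolvable p C1' := by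
    refine Fg24.SylowCount.isPSolvable_extension L0 (PairPSolv.isPSolvable_of_coprime hL0c) ?_
    refine PairPSolv.isPSolvable_of_isPGroup (IsPGroup.of_card (n := a) ?_)
    rw [← index_eq_card, hL0.index_eq_card, ha]
  have hsolN1 : Cfsg.IsPSolvable p N1 := by
    set g := QuotientGroup.mk' ((centralizer (Hs : Set G)).subgroupOf (normalizer (Hs : Set G)))
    set φ := g.comp (inclusion hN1Hs)
    have hker : φ.ker = C1' := by
      rw [hC1'eq, ← MonoidHom.comap_ker, QuotientGroup.ker_mk']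
    refine Fg24.SylowCount.isPSolvable_extension C1' hsolC1 ?_
    exact FusSys.isPSolvable_congr ((QuotientGroup.quotientKerEquivRange φ).symm.trans
      (QuotientGroup.quotientMulEquivOfEq hker)) (Offender.isPSolvable_subgroup (hsol Hs hHsp) φ.range)
  set L := L0.map C1'.subtype with hL
  haveI hLn : L.Normal := by
    have : L0.Characteristic := by
      refine characteristic_iff_le_comap.2 fun e x hx => ?_
      show e x ∈ L0
      rw [← QuotientGroup.eq_one_iff (N := L0)]
      refine orderOf_eq_one_iff.1 (Nat.eq_one_of_dvd_one ?_)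
      have h2 : (Nat.card (C1' ⧸ L0)).Coprime (Nat.card L0) := by
        rw [← index_eq_card, hL0.index_eq_card, ha]
        exact (hL0c.symm).pow_left a
      rw [← h2]
      exact Nat.dvd_gcd (orderOf_dvd_natCard _) (((orderOf_map_dvd (QuotientGroup.mk' L0) _).trans
        (e.orderOf_eq x).dvd).trans ((Subgroup.orderOf_coe (⟨x, hx⟩ : L0)).dvd.trans (orderOf_dvd_natCard _)))
    exact ConjAct.normal_of_characteristic_of_normal
  have hLC : L ≤ C1' := map_subtype_le _
  have hLcard : (Nat.card L).Coprime p := by rwa [hL, card_map_of_injective C1'.subtype_injective]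
  set f := QuotientGroup.mk' L with hf
  have hfs : Function.Surjective f := QuotientGroup.mk'_surjective L
  have hker : f.ker = L := QuotientGroup.ker_mk' L
  have hsolX := Layer.isPSolvable_of_surjective hsolN1 hfs
  -- the image of `Hs` is self-centralizing
  set Hb := (Hs.subgroupOf N1).map f with hHb
  haveI hHsn : (Hs.subgroupOf N1).Normal :=
    Subgroup.normal_subgroupOf_iff_le_normalizer (inf_le_left.trans hP0N1) |>.2 hN1Hs
  haveI hHbn : Hb.Normal := hHsn.map f hfs
  have hHbC : centralizer (Hb : Set (↥N1 ⧸ L)) ≤ Hb := by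
    intro z hz
    obtain ⟨y, rfl⟩ := hfs z
    have hyC : y ∈ C1' := by
      refine mem_subgroupOf.2 (mem_centralizer_iff.2 fun h hh => ?_)
      set hh' : ↥N1 := ⟨h, hP0N1 hh.1⟩
      have h1 : f (hh' * y) = f (y * hh') := by
        rw [map_mul, map_mul]
        exact mem_centralizer_iff.1 hz _ (mem_map_of_mem f (mem_subgroupOf.2 hh))
      have h2 : (hh' * y)⁻¹ * (y * hh') ∈ L := QuotientGroup.eq.1 h1
      have h4 : (hh' * y)⁻¹ * (y * hh') ∈ Hs.subgroupOf N1 := by
        have : (hh' * y)⁻¹ * (y * hh') = y⁻¹ * hh'⁻¹ * y⁻¹⁻¹ * hh' := by group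
        rw [this]
        exact mul_mem (hHsn.conj_mem _ (inv_mem (mem_subgroupOf.2 hh)) _) (mem_subgroupOf.2 hh)
      have h5 : (hh' * y)⁻¹ * (y * hh') = 1 := by
        have hb : L ⊓ Hs.subgroupOf N1 = ⊥ := by
          obtain ⟨c, hc⟩ := IsPGroup.iff_card.1 (hHsp.comap_of_injective N1.subtype N1.subtype_injective)
          exact inf_eq_bot_of_coprime (hc ▸ hLcard.pow_right c)
        exact mem_bot.1 (hb ▸ ⟨h2, h4⟩)
      exact congrArg Subtype.val (inv_mul_eq_one.1 h5)
    have hmem : (⟨y, hyC⟩ : C1') ∈ Zc ⊔ L0 := hL0.sup_eq_top ▸ mem_top _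
    rw [← SetLike.mem_coe, mul_normal] at hmem
    obtain ⟨z, hz', l, hl, hzl⟩ := hmem
    have hye : y = (z : N1) * (l : N1) := congrArg Subtype.val hzl.symm
    have hfl : f (l : N1) = 1 := (QuotientGroup.eq_one_iff _).2 (mem_map_of_mem C1'.subtype hl)
    rw [hye, map_mul, hfl, mul_one]
    exact mem_map_of_mem f (mem_subgroupOf.2 (hZcen z hz'))
  -- a Hall subgroup containing the image of `P0`
  let T1 : Sylow p N1 := IsPGroup.toSylow hP1p hP1i
  let T2 : Sylow p (↥N1 ⧸ L) := T1.mapSurjective hfs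
  have hT2 : (T2 : Subgroup (↥N1 ⧸ L)) = P1.map f := rfl
  obtain ⟨U0, hU0, hU0p, hU0q⟩ := exists_pairHall (q := q) _ hsolX
  obtain ⟨R⟩ := (inferInstance : Nonempty (Sylow p U0))
  have hR : ¬ p ∣ ((R : Subgroup U0).map U0.subtype).index := by
    rw [index_map_subtype]
    exact fun h => (hp.out.dvd_mul.1 h).elim R.not_dvd_index hU0p
  let R' : Sylow p (↥N1 ⧸ L) := IsPGroup.toSylow (R.isPGroup'.map U0.subtype) hR
  obtain ⟨g, hg⟩ := MulAction.exists_smul_eq (↥N1 ⧸ L) R' T2
  set U := U0.map (MulAut.conj g).toMonoidHom with hU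
  have hUeq : Nat.card U = Nat.card U0 := card_map_of_injective (MulAut.conj g).injective
  have hUi : U.index = U0.index := index_map_equiv U0 (MulAut.conj g)
  have hTU : P1.map f ≤ U := by
    have h0 : (T2 : Subgroup (↥N1 ⧸ L)) = ((R' : Subgroup (↥N1 ⧸ L))).map (MulAut.conj g).toMonoidHom := by
      rw [← hg]; rfl
    rw [← hT2, h0]
    exact map_mono (map_subtype_le _)
  have hHbU : Hb ≤ U := (map_mono (comap_mono inf_le_left)).trans hTU
  have hqX : q ∣ Nat.card (↥N1 ⧸ L) := by
    obtain ⟨x, hx, ⟨k, hk⟩, hxc⟩ := hQs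
    have hne : f ⟨x, hx⟩ ≠ 1 := fun h => hxc (hLC ((QuotientGroup.eq_one_iff _).1 h))
    have hd : orderOf (f ⟨x, hx⟩) ∣ q ^ k := by
      refine (orderOf_map_dvd _ _).trans ?_
      rw [← hk, ← orderOf_coe]
    obtain ⟨j, -, hj⟩ := (Nat.dvd_prime_pow hq.out).1 hd
    have hj0 : j ≠ 0 := fun h => hne (orderOf_eq_one_iff.1 (by rw [hj, h, pow_zero]))
    exact ((dvd_pow_self q hj0).trans hj.symm.dvd).trans (orderOf_dvd_natCard _)
  have hqU : q ∣ Nat.card U := by
    rw [← U.card_mul_index] at hqX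
    exact (hq.out.dvd_mul.1 hqX).resolve_right (hUi ▸ hU0q)
  have hconU : Layer.PCoreSelfCentral p U := by
    intro x hx
    have hP : Hb.subgroupOf U ≤ Cfsg.pCore p ↥U := Core.le_pCore
      (((hHsp.comap_of_injective N1.subtype N1.subtype_injective).map f).comap_of_injective _
        U.subtype_injective)
    refine hP (mem_subgroupOf.2 (hHbC (mem_centralizer_iff.2 fun y hy => ?_)))
    exact congrArg Subtype.val (mem_centralizer_iff.1 hx ⟨y, hHbU hy⟩ (hP (mem_subgroupOf.2 hy)))
  have hTU' : (T2 : Subgroup (↥N1 ⧸ L)) ≤ U := hT2 ▸ hTU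
  obtain ⟨W1, hW1c, hW1q⟩ := exists_qAct_charIn hpq h23 ↥U (Offender.isPSolvable_subgroup hsolX U)
    (fun r hr hd => hU0 r hr (hUeq ▸ hd)) hconU hqU (T2.subtype hTU')
  have hWc : CharIn (P1.map f) (W1.map U.subtype) := by
    have h0 := hW1c.map U.subtype_injective
    rwa [Sylow.coe_subtype, subgroupOf_map_subtype, hT2, inf_eq_left.2 hTU] at h0
  have hWq : QAct q (W1.map U.subtype) := hW1q.map U.subtype_injective
  set Wb := W1.map U.subtype
  -- pulling back
  set W0 := P1 ⊓ Wb.comap f with hW0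
  have hPL : P1 ⊓ L = ⊥ := by
    obtain ⟨c, hc⟩ := IsPGroup.iff_card.1 hP1p
    exact inf_eq_bot_of_coprime (hc ▸ (hLcard.pow_right c).symm)
  have hW0c : CharIn P1 W0 := by
    refine CharIn.comap ?_ hWc
    rw [hker, hPL]
    exact ⟨bot_le, fun e w hw => by
      have : w = 1 := Subtype.ext (mem_bot.1 hw)
      rw [this, map_one]; exact one_mem _⟩
  have hW0map : W0.map f = Wb := by
    refine le_antisymm (map_le_iff_le_comap.2 inf_le_right) fun w hw => ?_
    obtain ⟨v, hv, rfl⟩ := hWc.1 hw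
    exact ⟨v, ⟨hv, hw⟩, rfl⟩
  set M := Wb.comap f with hM
  have hLM : L ≤ M := hker ▸ ker_le_comap f Wb
  have hW0sylow : ¬ p ∣ W0.relIndex M := by
    have hc : W0.relIndex M ∣ Nat.card L := by
      have h1 : M = W0 ⊔ L := by
        rw [hM, ← hW0map, comap_map_eq, hker]
      rw [h1, sup_comm]
      have h2 := Core.card_sup_mul_card_inf W0 L
      rw [inf_comm, eq_bot_iff.2 ((inf_le_inf_left L (inf_le_left : W0 ≤ P1)).trans
        (inf_comm L P1 ▸ hPL).le), card_bot, mul_one] at h2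
      have h3 : W0.relIndex (L ⊔ W0) * Nat.card W0 = Nat.card (L ⊔ W0 : Subgroup N1) := by
        rw [relIndex, ← Nat.card_congr (subgroupOfEquivOfLe (le_sup_right : W0 ≤ L ⊔ W0)).toEquiv,
          index_mul_card]
      rw [sup_comm W0 L, ← h3, mul_comm _ (Nat.card W0)] at h2
      exact (Nat.eq_of_mul_eq_mul_left Nat.card_pos h2).dvd
    exact fun h => (hp.out.coprime_iff_not_dvd.1 hLcard.symm) (h.trans hc)
  have hW0p : IsPGroup p W0 := hP1p.to_le inf_le_left
  have hQW0 : QAct q W0 := by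
    obtain ⟨x, hx, hxo, hxc⟩ := hWq
    obtain ⟨y, rfl⟩ := hfs x
    set K := normalizer (M : Set N1)
    have hMK : M ≤ K := le_normalizer
    haveI : (M.subgroupOf K).Normal := Subgroup.normal_in_normalizer (H := M)
    have hW0M : W0 ≤ M := inf_le_right
    let TW : Sylow p (M.subgroupOf K) := IsPGroup.toSylow
      (((hW0p.comap_of_injective K.subtype K.subtype_injective).comap_of_injective _
        (M.subgroupOf K).subtype_injective) : IsPGroup p ((W0.subgroupOf K).subgroupOf (M.subgroupOf K)))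
      (by
        show ¬ p ∣ (W0.subgroupOf K).relIndex (M.subgroupOf K)
        rw [relIndex_subgroupOf hMK]
        exact hW0sylow)
    have hTW : (TW : Subgroup (M.subgroupOf K)).map (M.subgroupOf K).subtype = W0.subgroupOf K := by
      show ((W0.subgroupOf K).subgroupOf (M.subgroupOf K)).map _ = _
      rw [subgroupOf_map_subtype, inf_eq_left]
      exact comap_mono hW0M
    have hyK : y ∈ K := le_normalizer_comap f (mem_comap.2 hx)
    have hym : (⟨y, hyK⟩ : K) ∈ normalizer ((W0.subgroupOf K : Subgroup K) : Set K) ⊔ M.subgroupOf K :=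
      (hTW ▸ Sylow.normalizer_sup_eq_top TW) ▸ mem_top _
    rw [← SetLike.mem_coe, mul_normal] at hym
    obtain ⟨n, hn, m, hm, hnm⟩ := hym
    have hnW : (n : N1) ∈ normalizer (W0 : Set N1) := by
      refine mem_normalizer_iff.2 fun z => ⟨fun hz => (mem_normalizer_iff.1 hn ⟨z, hMK (hW0M hz)⟩).1 hz,
        fun hz => ?_⟩
      have hzK : z ∈ K := by
        have := mul_mem (mul_mem (inv_mem n.2) (hMK (hW0M hz))) n.2
        simpa [mul_assoc] using this
      exact (mem_normalizer_iff.1 hn ⟨z, hzK⟩).2 hz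
    have hfm : f (m : N1) ∈ W0.map f := hW0map.symm ▸ hm
    obtain ⟨w, hw, hwe⟩ := hfm
    have hfy : f ((n : N1) * w) = f y := by
      rw [map_mul, hwe, ← map_mul]
      exact congrArg f (congrArg Subtype.val hnm)
    refine qAct_of_image (f := f) (y := (n : N1) * w) (mul_mem hnW (le_normalizer hw)) ?_ ?_
    · rw [hfy]; exact hxo
    · rw [hfy, hW0map]; exact hxc
  refine ⟨W0.map N1.subtype, hW0p.map _, hQW0.map N1.subtype_injective, ?_⟩
  have hPWn : normalizer (P0 : Set G) ≤ normalizer ((W0.map N1.subtype : Subgroup G) : Set G) := by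
    have h0 := hW0c.map N1.subtype_injective
    rw [hP1, subgroupOf_map_subtype, inf_eq_left.2 hP0N1] at h0
    exact h0.normalizer_le
  -- normalisers grow in the Sylow subgroup
  set D := (Gp : Subgroup G) ⊓ normalizer (P0 : Set G) with hD
  have hlt' : P0 < D := by
    haveI : Group.IsNilpotent (Gp : Subgroup G) := Gp.isPGroup'.isNilpotent
    have hne : P0.subgroupOf (Gp : Subgroup G) < ⊤ :=
      lt_top_iff_ne_top.2 fun h => hlt (le_antisymm hP0G (subgroupOf_eq_top.1 h))
    have hgrow := normalizerCondition_of_isNilpotent (G := (Gp : Subgroup G)) _ hne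
    refine lt_of_le_of_ne (le_inf hP0G le_normalizer) fun he => ?_
    refine hgrow.not_ge fun z hz => ?_
    refine mem_subgroupOf.2 (he.ge ⟨z.2, mem_normalizer_iff.2 fun w => ⟨fun hw => ?_, fun hw => ?_⟩⟩)
    · exact (mem_normalizer_iff.1 hz ⟨w, hP0G hw⟩).1 hw
    · have hw' : w ∈ (Gp : Subgroup G) := by
        have := mul_mem (mul_mem (inv_mem z.2) (hP0G hw)) z.2
        simpa [mul_assoc] using this
      exact (mem_normalizer_iff.1 hz ⟨w, hw'⟩).2 hw
  have hD1 : Nat.card D ≤ p ^ sylSize p (W0.map N1.subtype) :=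
    card_pGroup_le (Gp.isPGroup'.to_le inf_le_left) (inf_le_right.trans hPWn)
  have hP0card : Nat.card P0 = p ^ sylSize p H := by
    rw [sylSize, ← T.card_eq_multiplicity]
    exact (Nat.card_congr (subgroupOfEquivOfLe hP0N).toEquiv).symm
  have hcl := Core.card_lt_of_lt hlt'
  rw [hP0card] at hcl
  exact (Nat.pow_lt_pow_iff_right hp.out.one_lt).1 (hcl.trans_le hD1)

theorem exists_normal [hp : Fact p.Prime] [hq : Fact q.Prime] (hpq : p ≠ q)
    (h23 : ¬ ((p = 2 ∧ q = 3) ∨ (p = 3 ∧ q = 2)))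
    (hsol : ∀ H : Subgroup G, IsPGroup p H → Cfsg.IsPSolvable p
      (↥(normalizer (H : Set G)) ⧸ (centralizer (H : Set G)).subgroupOf (normalizer (H : Set G))))
    (H : Subgroup G) (hH : IsPGroup p H) (hQ : QAct q H) (Gp : Sylow p G) :
    ∃ K : Subgroup G, K ≤ Gp ∧ (Gp : Subgroup G) ≤ normalizer (K : Set G) ∧ QAct q K := by
  obtain ⟨H1, ⟨hH1, hQ1⟩, hmax⟩ := (Set.toFinite {K : Subgroup G | IsPGroup p K ∧ QAct q K}).exists_maximalFor
    (sylSize p) _ ⟨H, hH, hQ⟩
  obtain ⟨T⟩ := (inferInstance : Nonempty (Sylow p (normalizer (H1 : Set G))))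
  set N := normalizer (H1 : Set G) with hN
  obtain ⟨Q, hTQ⟩ := (T.isPGroup'.map N.subtype).exists_le_sylow
  obtain ⟨g, hg⟩ := MulAction.exists_smul_eq G Q Gp
  set c := (MulAut.conj g).toMonoidHom with hc
  set H2 := H1.map c with hH2
  set P0 := ((T : Subgroup N).map N.subtype).map c with hP0
  have hN2 : normalizer (H2 : Set G) = N.map c := (map_equiv_normalizer_eq H1 (MulAut.conj g)).symm
  have hP0N : P0 ≤ normalizer (H2 : Set G) := hN2 ▸ map_mono (map_subtype_le _)
  have hP0G : P0 ≤ (Gp : Subgroup G) := by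
    rw [← hg]
    exact map_mono hTQ
  have hP0s : ¬ p ∣ P0.relIndex (normalizer (H2 : Set G)) := by
    rw [hN2, hP0, relIndex_map_map_of_injective _ _ (MulAut.conj g).injective, relIndex,
      subgroupOf, comap_map_eq_self_of_injective N.subtype_injective]
    exact T.not_dvd_index
  have hH2p : IsPGroup p H2 := hH1.map c
  have hQ2 : QAct q H2 := hQ1.conj g
  have hsz : sylSize p H2 = sylSize p H1 := by
    rw [sylSize, sylSize, hN2, card_map_of_injective (MulAut.conj g).injective]
  by_cases hlt : P0 = (Gp : Subgroup G)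
  · refine ⟨H2, ?_, hlt ▸ hP0N, hQ2⟩
    have h1 : H1 ≤ (T : Subgroup N).map N.subtype := by
      haveI : (H1.comap N.subtype).Normal := Subgroup.normal_in_normalizer (H := H1)
      have h2 : H1.subgroupOf N ≤ (T : Subgroup N) :=
        IsPGroup.le_sylow_of_normal (hH1.comap_of_injective _ N.subtype_injective) T
      intro x hx
      exact ⟨⟨x, le_normalizer hx⟩, h2 hx, rfl⟩
    exact hlt ▸ map_mono h1
  · obtain ⟨W, hW, hWq, hlt'⟩ := exists_larger hpq h23 hsol H2 P0 hH2p hQ2
      ((T.isPGroup'.map N.subtype).map c) hP0N hP0s Gp hP0G hlt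
    have := hmax ⟨hW, hWq⟩ (hsz ▸ hlt'.le)
    omega

end Cfsg.Agent.Automizer4411
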